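import Cfsg.Agent.Lib.ZipperVariant.Main

/-!
# Iterated commutators with a fixed element generate
-/

set_option autoImplicit false

namespace Cfsg.Agent.Lib.ZipperVariant

open scoped Pointwise commutatorElement

universe u

/-- If the conjugates of `a` generate, so do `a` and the `k`-fold commutators `⁅…⁅x, a⁆, …, a⁆`. -/
theorem closure_iterate_eq_top {P : Type u} [Group P] [Finite P] (a : P)
    (ha : Subgroup.normalClosure ((Subgroup.zpowers a : Subgroup P) : Set P) = ⊤) (k : ℕ) :
    Subgroup.closure (Set.range ((fun x : P => ⁅x, a⁆)^[k]) ∪ {a}) = ⊤ := by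
  suffices key : ∀ (n : ℕ) (P : Type u) [Group P] [Finite P], Nat.card P = n → ∀ a : P,
      Subgroup.normalClosure ((Subgroup.zpowers a : Subgroup P) : Set P) = ⊤ →
      Subgroup.closure (Set.range ((fun x : P => ⁅x, a⁆)^[k]) ∪ {a}) = ⊤ from
    key _ P rfl a ha
  intro n
  induction n using Nat.strong_induction_on with
  | _ n ih =>
    intro P _ _ hn a ha
    set K := Subgroup.closure (Set.range ((fun x : P => ⁅x, a⁆)^[k]) ∪ {a}) with hK
    by_contra hKne
    have haK : Subgroup.zpowers a ≤ K :=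
      Subgroup.zpowers_le.mpr (Subgroup.subset_closure (Or.inr rfl))
    have hA : Subgroup.zpowers a ≠ ⊤ := fun e => hKne (top_le_iff.mp (e ▸ haK))
    have hperf : ∀ H : Subgroup P, Perf (Subgroup.zpowers a) H → H ≠ ⊤ → H ≤ K := by
      intro H hH hHt
      have haH : a ∈ H := hH.1 (Subgroup.mem_zpowers a)
      have hsub : (Subgroup.zpowers a).subgroupOf H = Subgroup.zpowers (⟨a, haH⟩ : H) := by
        apply Subgroup.map_injective H.subtype_injective
        rw [Subgroup.map_subgroupOf_eq_of_le hH.1, MonoidHom.map_zpowers]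
        rfl
      have hlt : Nat.card H < n := hn ▸ Components.card_lt_of_ne_top hHt
      have h1 := ih _ hlt H rfl ⟨a, haH⟩ (hsub ▸ hH.2)
      have hsc : ∀ x : H, H.subtype (((fun y : H => ⁅y, (⟨a, haH⟩ : H)⁆)^[k]) x) =
          ((fun y : P => ⁅y, a⁆)^[k]) (H.subtype x) :=
        Function.Semiconj.iterate_right (f := H.subtype) (fun y => rfl) k
      intro x hx
      have h2 : (⟨x, hx⟩ : H) ∈ K.comap H.subtype := by
        have h3 : Subgroup.closure (Set.range ((fun y : H => ⁅y, (⟨a, haH⟩ : H)⁆)^[k]) ∪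
            {(⟨a, haH⟩ : H)}) ≤ K.comap H.subtype := by
          refine (Subgroup.closure_le _).mpr ?_
          rintro y (⟨z, rfl⟩ | rfl)
          · exact Subgroup.subset_closure (Or.inl ⟨z, (hsc z).symm⟩)
          · exact Subgroup.subset_closure (Or.inr rfl)
        exact h3 (by rw [h1]; trivial)
      exact h2
    obtain ⟨M, ⟨hM, haM⟩, huniq⟩ := existsUnique_coatom _ ha hA ⟨K, hKne, hperf⟩
    have haM' : a ∈ M := haM (Subgroup.mem_zpowers a)
    have hKM : K ≤ M := by
      obtain ⟨X, hX, hKX⟩ := (eq_top_or_exists_le_coatom K).resolve_left hKne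
      exact huniq X ⟨hX, haK.trans hKX⟩ ▸ hKX
    have hN : Subgroup.normalizer (M : Set P) = M := by
      refine (hM.le_iff.mp Subgroup.le_normalizer).resolve_left fun e => hM.1 ?_
      haveI := Subgroup.normalizer_eq_top_iff.mp e
      exact top_le_iff.mp (ha ▸ Subgroup.normalClosure_le_normal haM)
    have hstep : ∀ x : P, x ∉ M → ⁅x, a⁆ ∉ M := by
      intro x hx h
      apply hx
      have h1 : x * a * x⁻¹ ∈ M := by
        have := mul_mem h haM'
        rwa [commutatorElement_def, inv_mul_cancel_right] at this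
      have h2 : MulAut.conj x⁻¹ • M = M := huniq _ ⟨isCoatom_smul hM x⁻¹, by
        rw [Subgroup.zpowers_le, Subgroup.mem_pointwise_smul_iff_inv_smul_mem, MulAut.smul_def]
        simpa [mul_assoc] using h1⟩
      rw [← mem_normalizer_iff_smul, hN] at h2
      exact inv_mem_iff.mp h2
    obtain ⟨x, hx⟩ : ∃ x, x ∉ M := by
      by_contra! h
      exact hM.1 (top_le_iff.mp fun x _ => h x)
    have hit : ∀ j, ((fun y : P => ⁅y, a⁆)^[j]) x ∉ M := fun j => by
      induction j with
      | zero => exact hx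
      | succ j ihj => rw [Function.iterate_succ_apply']; exact hstep _ ihj
    exact hit k (hKM (Subgroup.subset_closure (Or.inl ⟨x, rfl⟩)))

/-- Automorphism form. -/
theorem closure_iterate_aut {G : Type*} [Group G] [Finite G] (α : MulAut G)
    (hG : Subgroup.closure (Set.range (fun c : G => c * (α c)⁻¹)) = ⊤) (k : ℕ) (hk : 1 ≤ k) :
    Subgroup.closure (Set.range ((fun c : G => c * (α c)⁻¹)^[k])) = ⊤ := by
  let Γ : Subgroup (MulAut G) := Subgroup.zpowers α
  let t : Γ := ⟨α, Subgroup.mem_zpowers α⟩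
  haveI : Finite (G ⋊[Γ.subtype] Γ) := Finite.of_equiv _ SemidirectProduct.equivProd.symm
  set a : (G ⋊[Γ.subtype] Γ) := SemidirectProduct.inr t with ha
  set f : G → G := fun c => c * (α c)⁻¹ with hf
  have hφ : ∀ x : (G ⋊[Γ.subtype] Γ), ⁅x, a⁆ = SemidirectProduct.inl (f x.left) := by
    intro x
    have hc : x.right * t = t * x.right := mul_comm' _ _
    refine SemidirectProduct.ext ?_ ?_
    · simp [ha, hf, commutatorElement_def, hc]
      rfl
    · simp [ha, commutatorElement_def, hc]
  have hit : ∀ x : (G ⋊[Γ.subtype] Γ), ∀ j, ((fun y : (G ⋊[Γ.subtype] Γ) => ⁅y, a⁆)^[j + 1]) x =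
      SemidirectProduct.inl ((f^[j + 1]) x.left) := by
    intro x j
    induction j with
    | zero => exact hφ x
    | succ j ih =>
      rw [Function.iterate_succ_apply', ih, hφ, Function.iterate_succ_apply' f (j + 1)]
      rfl
  have hcl : Subgroup.normalClosure ((Subgroup.zpowers a : Subgroup (G ⋊[Γ.subtype] Γ)) : Set (G ⋊[Γ.subtype] Γ)) = ⊤ := by
    set N := Subgroup.normalClosure ((Subgroup.zpowers a : Subgroup (G ⋊[Γ.subtype] Γ)) : Set (G ⋊[Γ.subtype] Γ))
    have haN : a ∈ N := Subgroup.subset_normalClosure (Subgroup.mem_zpowers a)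
    have hinl : (⊤ : Subgroup G) ≤ N.comap SemidirectProduct.inl := by
      rw [← hG]
      refine (Subgroup.closure_le _).mpr ?_
      rintro _ ⟨c, rfl⟩
      show SemidirectProduct.inl (f c) ∈ N
      rw [← show (SemidirectProduct.inl c : (G ⋊[Γ.subtype] Γ)).left = c from rfl, ← hφ, commutatorElement_def]
      exact mul_mem (Subgroup.normalClosure_normal.conj_mem a haN _) (inv_mem haN)
    rw [eq_top_iff]
    intro x _
    rw [← SemidirectProduct.inl_left_mul_inr_right x]
    refine mul_mem (hinl (Subgroup.mem_top _)) ?_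
    obtain ⟨j, hj⟩ := Subgroup.mem_zpowers_iff.mp x.right.2
    have hxt : x.right = t ^ j := Subtype.ext (by rw [Subgroup.coe_zpow]; exact hj.symm)
    rw [hxt, map_zpow]
    exact zpow_mem haN j
  have htop := closure_iterate_eq_top a hcl k
  obtain ⟨j, rfl⟩ : ∃ j, k = j + 1 := ⟨k - 1, by omega⟩
  set H := Subgroup.closure (Set.range (f^[j + 1])) with hH
  have hinv : ∀ g ∈ H, α g ∈ H := by
    intro g hg
    have h1 : H ≤ H.comap α.toMonoidHom := by
      refine (Subgroup.closure_le _).mpr ?_
      rintro _ ⟨c, rfl⟩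
      refine Subgroup.subset_closure ⟨α c, ?_⟩
      exact (Function.Semiconj.iterate_right (f := α)
        (fun y => by simp [hf, map_mul, map_inv]) (j + 1) c).symm
    exact h1 hg
  have hinvz : ∀ (b : Γ), ∀ g ∈ H, (b : MulAut G) g ∈ H := by
    intro b
    obtain ⟨i, hi⟩ := (Subgroup.mem_zpowers_iff.mp b.2)
    rw [← hi]
    clear hi
    let St : Subgroup (MulAut G) :=
      { carrier := {β | ∀ g, β g ∈ H ↔ g ∈ H}
        one_mem' := fun g => Iff.rfl
        mul_mem' := fun {β γ} hβ hγ g => by rw [MulAut.mul_apply, hβ, hγ]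
        inv_mem' := fun {β} hβ g => by rw [← hβ, MulAut.apply_inv_self] }
    have hαSt : α ∈ St := fun g => ⟨fun h => by
      let e : H → H := fun y => ⟨α y, hinv y y.2⟩
      have he : Function.Injective e := fun y z h' => Subtype.ext (α.injective (congrArg Subtype.val h'))
      obtain ⟨y, hy⟩ := Finite.surjective_of_injective he ⟨α g, h⟩
      exact (α.injective (congrArg Subtype.val hy)) ▸ y.2, hinv g⟩
    intro g hg
    exact ((zpow_mem hαSt i) g).mpr hg
  let N : Subgroup (G ⋊[Γ.subtype] Γ) :=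
    { carrier := {x | x.left ∈ H}
      one_mem' := one_mem H
      mul_mem' := fun {x y} hx hy => mul_mem hx (hinvz x.right _ hy)
      inv_mem' := fun {x} hx => hinvz x.right⁻¹ _ (inv_mem hx) }
  have hN : Subgroup.closure (Set.range ((fun x : (G ⋊[Γ.subtype] Γ) => ⁅x, a⁆)^[j + 1]) ∪ {a}) ≤ N := by
    refine (Subgroup.closure_le _).mpr ?_
    rintro y (⟨z, rfl⟩ | rfl)
    · show (((fun x : (G ⋊[Γ.subtype] Γ) => ⁅x, a⁆)^[j + 1]) z).left ∈ H
      rw [hit]
      exact Subgroup.subset_closure ⟨z.left, rfl⟩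
    · exact one_mem H
  rw [htop] at hN
  exact eq_top_iff.mpr fun g _ => hN (Subgroup.mem_top (SemidirectProduct.inl g : (G ⋊[Γ.subtype] Γ)))

end Cfsg.Agent.Lib.ZipperVariant
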