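import Cfsg.Agent.Lib.ZipperVariant.Perfect

/-!
# Unique maximal overgroup: the combinatorial core

`A` has normal closure `G`; `M` is the only maximal overgroup in which `A` is not subnormal; two
distinct conjugates with the same such overgroup `M` lie in no other maximal subgroup.  Then `M`
is the only maximal overgroup of `A`.
-/

set_option autoImplicit false

namespace Cfsg.Agent.Lib.ZipperVariant

open scoped Pointwise

variable {G : Type*} [Group G]

/-- Conjugation. -/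
local notation:73 g:74 " ▹ " H:73 => MulAut.conj g • H

theorem conj_smul_conj (g h : G) (H : Subgroup G) : g ▹ (h ▹ H) = (g * h) ▹ H := by
  rw [smul_smul, ← map_mul]

theorem mem_normalizer_iff_smul {g : G} {H : Subgroup G} :
    g ∈ Subgroup.normalizer (H : Set G) ↔ g ▹ H = H :=
  Subgroup.mem_normalizer_iff_map_conj_eq

theorem isCoatom_smul {X : Subgroup G} (hX : IsCoatom X) (g : G) : IsCoatom (g ▹ X) := by
  have := ((MulAut.conj g).mapSubgroup).isCoatom_iff X |>.mpr hX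
  exact this

/-- The hypotheses. -/
structure Setup (A M : Subgroup G) : Prop where
  closure_eq : Subgroup.normalClosure (A : Set G) = ⊤
  coatom : IsCoatom M
  le : A ≤ M
  not_sn : ¬ SNIn A M
  star : ∀ X, IsCoatom X → A ≤ X → X ≠ M → SNIn A X
  pair : ∀ g : G, g ▹ A ≠ A → g ▹ M = M → ∀ X, IsCoatom X → X ≠ M → A ≤ X → ¬ g ▹ A ≤ X

/-- The maximal overgroup in which a conjugate is not subnormal. -/
def Bad (C X : Subgroup G) : Prop := IsCoatom X ∧ C ≤ X ∧ ¬ SNIn C X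

/-- A set of conjugates `T` fails to be normalised: `C` misses `Z`. -/
def Lacks (C Z : Subgroup G) : Prop := ∃ X, Bad C X ∧ ¬ Z ≤ X

theorem Bad.smul [Finite G] {C X : Subgroup G} (h : Bad C X) (g : G) : Bad (g ▹ C) (g ▹ X) :=
  ⟨isCoatom_smul h.1 g, Subgroup.pointwise_smul_le_pointwise_smul_iff.mpr h.2.1,
    fun hs => h.2.2 ((snIn_smul g).mp hs)⟩

theorem lacks_smul [Finite G] (g : G) (C Z : Subgroup G) : Lacks (g ▹ C) (g ▹ Z) ↔ Lacks C Z := by
  suffices key : ∀ (g : G) (C Z : Subgroup G), Lacks C Z → Lacks (g ▹ C) (g ▹ Z) by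
    refine ⟨fun h => ?_, key g C Z⟩
    have h1 := key g⁻¹ _ _ h
    rwa [conj_smul_conj, conj_smul_conj, inv_mul_cancel, map_one, one_smul, one_smul] at h1
  rintro g C Z ⟨X, hX, hZ⟩
  exact ⟨g ▹ X, hX.smul g, fun h => hZ (Subgroup.pointwise_smul_le_pointwise_smul_iff.mp h)⟩

/-- An infinite sequence of growing gaps is impossible in a finite set. -/
theorem no_sequence {β : Type*} [Finite β] (L : β → β → Prop) (a : ℕ → β)
    (hirr : ∀ n, ¬ L (a n) (a n)) (h : ∀ n i, i < n → L (a n) (a i)) : False := by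
  have hinj : Function.Injective a := by
    intro i j hij
    rcases lt_trichotomy i j with hlt | he | hlt
    · exact absurd (hij ▸ h j i hlt) (hirr j)
    · exact he
    · exact absurd (hij.symm ▸ h i j hlt) (hirr i)
  exact not_injective_infinite_finite a hinj

namespace Setup

variable [Finite G] {A M : Subgroup G} (S : Setup A M)

include S

theorem bad_self : Bad A M := ⟨S.coatom, S.le, S.not_sn⟩

theorem not_normal {X : Subgroup G} (hX : IsCoatom X) {g : G} (hg : g ▹ A ≤ X) : ¬ X.Normal := by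
  intro hn
  apply hX.1
  rw [← top_le_iff, ← S.closure_eq]
  refine Subgroup.normalClosure_le_normal fun a ha => ?_
  have h1 : g * a * g⁻¹ ∈ X := hg ⟨a, ha, rfl⟩
  have := hn.conj_mem _ h1 g⁻¹
  simpa [mul_assoc] using this

theorem bad_eq {g : G} {X : Subgroup G} (h : Bad (g ▹ A) X) : X = g ▹ M := by
  by_contra hne
  refine h.2.2 ?_
  have hX' := isCoatom_smul h.1 g⁻¹
  have hA : A ≤ g⁻¹ ▹ X := by
    have := Subgroup.pointwise_smul_le_pointwise_smul_iff (a := MulAut.conj g⁻¹) |>.mpr h.2.1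
    rwa [conj_smul_conj, inv_mul_cancel, map_one, one_smul] at this
  have hne' : g⁻¹ ▹ X ≠ M := fun e => hne (by
    rw [← e, conj_smul_conj, mul_inv_cancel, map_one, one_smul])
  have h1 := (snIn_smul g).mpr (S.star _ hX' hA hne')
  rwa [conj_smul_conj, mul_inv_cancel, map_one, one_smul] at h1

theorem bad_unique {C X X' : Subgroup G} (hC : ∃ g : G, g ▹ A = C) (h : Bad C X) (h' : Bad C X') :
    X = X' := by
  obtain ⟨g, rfl⟩ := hC
  rw [S.bad_eq h, S.bad_eq h']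

theorem bad_exists {C : Subgroup G} (hC : ∃ g : G, g ▹ A = C) : ∃ X, Bad C X := by
  obtain ⟨g, rfl⟩ := hC
  exact ⟨_, S.bad_self.smul g⟩

theorem pair' {C C' X X' : Subgroup G} (hC : ∃ g : G, g ▹ A = C) (hC' : ∃ g : G, g ▹ A = C')
    (h : Bad C X) (h' : Bad C' X) (hX' : IsCoatom X') (hne : X' ≠ X) (hle : C ≤ X') (hle' : C' ≤ X') :
    C = C' := by
  obtain ⟨g, rfl⟩ := hC
  obtain ⟨k, rfl⟩ := hC'
  by_contra hcc
  have hXg := S.bad_eq h
  have hXk := S.bad_eq h'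
  refine S.pair (g⁻¹ * k) (fun e => hcc ?_) ?_ (g⁻¹ ▹ X') (isCoatom_smul hX' _) (fun e => hne ?_) ?_ ?_
  · conv_lhs => rw [← e, conj_smul_conj, mul_inv_cancel_left]
  · rw [← conj_smul_conj, ← hXk, hXg, conj_smul_conj, inv_mul_cancel, map_one, one_smul]
  · rw [hXg, ← e, conj_smul_conj, mul_inv_cancel, map_one, one_smul]
  · have := Subgroup.pointwise_smul_le_pointwise_smul_iff (a := MulAut.conj g⁻¹) |>.mpr hle
    rwa [conj_smul_conj, inv_mul_cancel, map_one, one_smul] at this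
  · have := Subgroup.pointwise_smul_le_pointwise_smul_iff (a := MulAut.conj g⁻¹) |>.mpr hle'
    rwa [conj_smul_conj] at this

theorem smul_bad_eq {C X : Subgroup G} (hC : ∃ g : G, g ▹ A = C) (h : Bad C X) {g : G}
    (hg : g ▹ C = C) : g ∈ X := by
  have h1 : g ▹ X = X := S.bad_unique hC (by simpa [hg] using h.smul g) h
  have hN : Subgroup.normalizer (X : Set G) ≠ ⊤ := fun e => by
    obtain ⟨k, hk⟩ := hC
    exact S.not_normal h.1 (g := k) (hk ▸ h.2.1) (Subgroup.normalizer_eq_top_iff.mp e)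
  have hXN : Subgroup.normalizer (X : Set G) = X :=
    ((h.1.le_iff.mp Subgroup.le_normalizer).resolve_left hN)
  exact hXN ▸ mem_normalizer_iff_smul.mpr h1

end Setup

/-- Conjugates inside two subgroups. -/
def common (A X X' : Subgroup G) : Set (Subgroup G) :=
  {C | (∃ g : G, g ▹ A = C) ∧ C ≤ X ∧ C ≤ X'}

theorem conj_of_conj {A C : Subgroup G} (h : ∃ g : G, g ▹ A = C) (k : G) :
    ∃ g : G, g ▹ A = k ▹ C := by
  obtain ⟨g, rfl⟩ := h
  exact ⟨k * g, (conj_smul_conj k g A).symm⟩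

theorem smul_le_of_mem {C X : Subgroup G} {d : G} (hd : d ∈ X) (h : C ≤ X) : d ▹ C ≤ X := by
  rintro _ ⟨c, hc, rfl⟩
  exact mul_mem (mul_mem hd (h hc)) (inv_mem hd)

theorem smul_mem_self {X : Subgroup G} {d : G} (hd : d ∈ X) : d ▹ X = X :=
  mem_normalizer_iff_smul.mp (Subgroup.le_normalizer hd)

namespace Setup

variable [Finite G] {A M : Subgroup G} (S : Setup A M)

include S

/-- An element of one of two maximal subgroups, outside the intersection, permuting the common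
conjugates that are subnormal there. -/
theorem exists_mover {X X' : Subgroup G} (hX : IsCoatom X) (hX' : IsCoatom X') (hne : X ≠ X') :
    ∃ z ∈ X, z ∉ X' ∧ ∀ C ∈ common A X X', ¬ Bad C X → z ▹ C ∈ common A X X' ∧ ¬ Bad (z ▹ C) X := by
  set T₀ := {C ∈ common A X X' | ¬ Bad C X} with hT₀
  set R := sSup T₀ with hR
  have hRX : R ≤ X := sSup_le fun C hC => hC.1.2.1
  have hRX' : R ≤ X' := sSup_le fun C hC => hC.1.2.2
  have hsn : SNIn R X := snIn_sSup (fun C hC => hC.1.2.1) fun C hC => by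
    by_contra h
    exact hC.2 ⟨hX, hC.1.2.1, h⟩
  have hgood : ∀ z ∈ X, z ▹ R ≤ X' → ∀ C ∈ common A X X', ¬ Bad C X →
      z ▹ C ∈ common A X X' ∧ ¬ Bad (z ▹ C) X := by
    intro z hz hzR C hC hb
    refine ⟨⟨conj_of_conj hC.1 z, smul_le_of_mem hz hC.2.1,
      le_trans (Subgroup.pointwise_smul_le_pointwise_smul_iff.mpr ?_) hzR⟩, fun h => hb ?_⟩
    · exact le_sSup (show C ∈ T₀ from ⟨hC, hb⟩)
    · have h1 := h.smul z⁻¹
      rwa [conj_smul_conj, inv_mul_cancel, map_one, one_smul, smul_mem_self (inv_mem hz)] at h1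
  have hnle : ¬ X ≤ X' := fun h => (hX.le_iff.mp h).elim hX'.1 (fun e => hne e.symm)
  have hDR : ∀ d ∈ X, d ∈ X' → d ∈ Subgroup.normalizer (R : Set G) := by
    intro d hd hd'
    have hle : ∀ d' ∈ X, d' ∈ X' → d' ▹ R ≤ R := by
      intro d' hd hd'
      rw [hR, Subgroup.pointwise_smul_subset_iff]
      refine sSup_le fun C hC => ?_
      rw [← Subgroup.pointwise_smul_subset_iff]
      refine le_sSup ⟨⟨conj_of_conj hC.1.1 d', smul_le_of_mem hd hC.1.2.1,
        smul_le_of_mem hd' hC.1.2.2⟩, fun h => hC.2 ?_⟩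
      have h1 := h.smul d'⁻¹
      rwa [conj_smul_conj, inv_mul_cancel, map_one, one_smul, smul_mem_self (inv_mem hd)] at h1
    rw [mem_normalizer_iff_smul]
    refine le_antisymm (hle d hd hd') ?_
    rw [Subgroup.subset_pointwise_smul_iff, ← map_inv]
    exact hle _ (inv_mem hd) (inv_mem hd')
  by_cases hN : ∀ z ∈ X, z ∈ Subgroup.normalizer (R : Set G) → z ∈ X'
  · -- a conjugate of `R` in its normaliser
    have hnn : ¬ (R.subgroupOf X).Normal := fun hn => hnle fun z hz =>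
      hN z hz ((Subgroup.normal_subgroupOf_iff_le_normalizer hRX).mp hn hz)
    obtain ⟨⟨z, hz⟩, hz1, hz2⟩ := Zipper.exists_conj_le_normalizer hsn hnn
    have key : ∀ y : X, y ∈ Subgroup.normalizer ((R.subgroupOf X : Subgroup X) : Set X) →
        (y : G) ∈ Subgroup.normalizer (R : Set G) := fun y hy => by
      rw [← Subgroup.subgroupOf_normalizer_eq hRX] at hy
      exact hy
    refine ⟨z, hz, fun hz' => hz1 ?_, hgood z hz ?_⟩
    · rw [← Subgroup.subgroupOf_normalizer_eq hRX]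
      exact hDR z hz hz'
    · rintro _ ⟨r, hr, rfl⟩
      exact hN _ (mul_mem (mul_mem hz (hRX hr)) (inv_mem hz)) (key _ (hz2 ⟨r, hRX hr⟩ hr))
  · push Not at hN
    obtain ⟨z, hz, hzN, hz'⟩ := hN
    exact ⟨z, hz, hz', hgood z hz (by rw [mem_normalizer_iff_smul.mp hzN]; exact hRX')⟩

section

variable {X X' C₀ : Subgroup G} (hX' : IsCoatom X') (hne : X' ≠ X)
  (h₀ : C₀ ∈ common A X X') (hb₀ : Bad C₀ X)

omit S in
theorem not_lacks_self {C : Subgroup G} : ¬ Lacks C C := fun ⟨_, hY, h⟩ => h hY.2.1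

include hb₀ in
theorem not_lacks_of_mem {C Z : Subgroup G} (hC : C = C₀) (hZ : Z ∈ common A X X')
    (h0 : ∃ g : G, g ▹ A = C₀) : ¬ Lacks C Z := by
  subst hC
  rintro ⟨Y, hY, h⟩
  exact h (S.bad_unique h0 hY hb₀ ▸ hZ.2.1)

include hX' hne h₀ hb₀ in
theorem eq_of_bad {C : Subgroup G} (hC : C ∈ common A X X') (hb : Bad C X) : C = C₀ :=
  S.pair' hC.1 h₀.1 hb hb₀ hX' hne hC.2.2 h₀.2.2

include hX' hne h₀ hb₀ in
/-- Effect on gaps of an element permuting all common conjugates but `C₀`, which it moves. -/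
theorem lacks_mover {m : G} (hm : m ∈ X)
    (hmap : ∀ C ∈ common A X X', ¬ Bad C X → m ▹ C ∈ common A X X' ∧ ¬ Bad (m ▹ C) X)
    (hmove : m ▹ C₀ ≠ C₀) {C : Subgroup G} (hC : C ∈ common A X X') (hCne : C ≠ C₀)
    (hCl : ¬ Lacks C C₀) {Z : Subgroup G} (hZ : Z ∈ common A X X') :
    Lacks (m ▹ C) Z ↔ Z = C₀ ∨ ∃ Z' ∈ common A X X', Lacks C Z' ∧ m ▹ Z' = Z := by
  classical
  have hCb : ¬ Bad C X := fun h => hCne (eq_of_bad S hX' hne h₀ hb₀ hC h)
  constructor
  · intro hl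
    by_cases hZe : Z = C₀
    · exact Or.inl hZe
    refine Or.inr ?_
    have hZb : ¬ Bad Z X := fun h => hZe (eq_of_bad S hX' hne h₀ hb₀ hZ h)
    let T₀ := {C : Subgroup G // C ∈ common A X X' ∧ ¬ Bad C X}
    let f : T₀ → T₀ := fun D => ⟨m ▹ D.1, hmap D.1 D.2.1 D.2.2⟩
    have hf : Function.Injective f := fun D E e => by
      have h1 : m ▹ D.1 = m ▹ E.1 := congrArg Subtype.val e
      exact Subtype.ext (smul_left_cancel _ h1)
    obtain ⟨⟨Z', hZ'⟩, hfZ⟩ := Finite.surjective_of_injective hf ⟨Z, hZ, hZb⟩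
    have hmZ : m ▹ Z' = Z := congrArg Subtype.val hfZ
    exact ⟨Z', hZ'.1, (lacks_smul m C Z').mp (hmZ ▸ hl), hmZ⟩
  · rintro (rfl | ⟨Z', hZ', hl, rfl⟩)
    · obtain ⟨Y, hY⟩ := S.bad_exists hC.1
      have hmY := hY.smul m
      refine ⟨_, hmY, fun hle => hmove (S.pair' (conj_of_conj h₀.1 m) h₀.1
        (by simpa [smul_mem_self hm] using hb₀.smul m) hb₀ hmY.1 (fun e => ?_) ?_ hle)⟩
      · apply hCb
        have h1 := hY
        rw [← smul_left_cancel (MulAut.conj m) (e.trans (smul_mem_self hm).symm)]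
        exact h1
      · refine Subgroup.pointwise_smul_le_pointwise_smul_iff.mpr ?_
        by_contra h
        exact hCl ⟨Y, hY, h⟩
    · exact (lacks_smul m C Z').mpr hl

end

theorem mem_common_comm {X X' C : Subgroup G} (h : C ∈ common A X X') : C ∈ common A X' X :=
  ⟨h.1, h.2.2, h.2.1⟩

/-- Contradiction from a mover of `C₀` and an element fixing the set which moves `C₀`. -/
theorem false_of_stab {X X' C₀ : Subgroup G} (hX' : IsCoatom X') (hne : X' ≠ X)
    (h₀ : C₀ ∈ common A X X') (hb₀ : Bad C₀ X) {m : G} (hm : m ∈ X)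
    (hmap : ∀ C ∈ common A X X', ¬ Bad C X → m ▹ C ∈ common A X X' ∧ ¬ Bad (m ▹ C) X)
    (hmove : m ▹ C₀ ≠ C₀) {x : G}
    (hx : ∀ C, C ∈ common A X X' → x ▹ C ∈ common A X X') (hxmove : x ▹ C₀ ≠ C₀) : False := by
  set T := common A X X' with hT
  have hxi : ∀ C ∈ T, ∃ D ∈ T, x ▹ D = C := by
    intro C hC
    let f : T → T := fun D => ⟨x ▹ D.1, hx D.1 D.2⟩
    have hf : Function.Injective f := fun D E e => by
      have h1 : x ▹ D.1 = x ▹ E.1 := congrArg Subtype.val e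
      exact Subtype.ext (smul_left_cancel _ h1)
    obtain ⟨⟨D, hD⟩, hfD⟩ := Finite.surjective_of_injective hf ⟨C, hC⟩
    exact ⟨D, hD, congrArg Subtype.val hfD⟩
  let a : ℕ → Subgroup G := fun n => Nat.rec C₀ (fun _ C => m ▹ (x ▹ C)) n
  have key : ∀ n, a n ∈ T ∧ ∀ Z ∈ T, Lacks (a n) Z ↔ ∃ j < n, a j = Z := by
    intro n
    induction n using Nat.strong_induction_on with
    | _ n ih =>
      rcases n with _ | n
      · exact ⟨h₀, fun Z hZ => ⟨fun h => absurd h (not_lacks_of_mem S hb₀ rfl hZ h₀.1),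
          fun ⟨j, hj, _⟩ => absurd hj (Nat.not_lt_zero j)⟩⟩
      obtain ⟨hn, hL⟩ := ih n (Nat.lt_succ_self n)
      have hemp : ∀ i ≤ n, x ▹ a i ≠ C₀ := by
        intro i hi he
        rcases Nat.eq_zero_or_pos i with rfl | hpos
        · exact hxmove he
        · have h1 := (lacks_smul x _ _).mpr
            (((ih i (Nat.lt_succ_of_le hi)).2 C₀ h₀).mpr ⟨0, hpos, rfl⟩)
          rw [he] at h1
          exact not_lacks_of_mem S hb₀ rfl (hx C₀ h₀) h₀.1 h1
      have hC : x ▹ a n ∈ T := hx _ hn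
      have hCl : ¬ Lacks (x ▹ a n) C₀ := by
        obtain ⟨D, hD, hDe⟩ := hxi C₀ h₀
        rw [← hDe, lacks_smul, hL D hD]
        rintro ⟨j, hj, rfl⟩
        exact hemp j hj.le hDe
      have hCb : ¬ Bad (x ▹ a n) X := fun h =>
        hemp n le_rfl (eq_of_bad S hX' hne h₀ hb₀ hC h)
      refine ⟨(hmap _ hC hCb).1, fun Z hZ => ?_⟩
      show Lacks (m ▹ (x ▹ a n)) Z ↔ _
      rw [lacks_mover S hX' hne h₀ hb₀ hm hmap hmove hC (hemp n le_rfl) hCl hZ]
      constructor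
      · rintro (rfl | ⟨Z', hZ', hl, rfl⟩)
        · exact ⟨0, Nat.succ_pos n, rfl⟩
        · obtain ⟨D, hD, rfl⟩ := hxi Z' hZ'
          obtain ⟨j, hj, rfl⟩ := (hL D hD).mp ((lacks_smul x _ _).mp hl)
          exact ⟨j + 1, Nat.succ_lt_succ hj, rfl⟩
      · rintro ⟨_ | j, hj, rfl⟩
        · exact Or.inl rfl
        · have hj' : j < n := Nat.lt_of_succ_lt_succ hj
          have hjT : a j ∈ T := (ih j (by omega)).1
          exact Or.inr ⟨x ▹ a j, hx _ hjT,
            (lacks_smul x _ _).mpr ((hL _ hjT).mpr ⟨j, hj', rfl⟩), rfl⟩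
  refine no_sequence (β := T) (fun C Z => Lacks (C : Subgroup G) Z) (fun n => ⟨a n, (key n).1⟩)
    (fun n => not_lacks_self) (fun n i hi => ((key n).2 _ (key i).1).mpr ⟨i, hi, rfl⟩)

/-- Contradiction from movers on both sides. -/
theorem false_of_movers {X X' C₀ B₀ : Subgroup G} (hX : IsCoatom X) (hX' : IsCoatom X') (hne : X' ≠ X)
    (h₀ : C₀ ∈ common A X X') (hb₀ : Bad C₀ X) (h₁ : B₀ ∈ common A X X') (hb₁ : Bad B₀ X')
    {m : G} (hm : m ∈ X)
    (hmap : ∀ C ∈ common A X X', ¬ Bad C X → m ▹ C ∈ common A X X' ∧ ¬ Bad (m ▹ C) X)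
    (hmove : m ▹ C₀ ≠ C₀) {x : G} (hx : x ∈ X')
    (hxmap : ∀ C ∈ common A X' X, ¬ Bad C X' → x ▹ C ∈ common A X' X ∧ ¬ Bad (x ▹ C) X')
    (hxmove : x ▹ B₀ ≠ B₀) : False := by
  set T := common A X X' with hT
  have hBC : B₀ ≠ C₀ := fun e => hne (S.bad_unique h₀.1 (e ▸ hb₁) hb₀)
  let p : ℕ → Subgroup G × Subgroup G :=
    fun n => Nat.rec (C₀, B₀) (fun _ q => (m ▹ q.2, x ▹ q.1)) n
  have key : ∀ n, (p n).1 ∈ T ∧ (p n).2 ∈ T ∧
      (∀ Z ∈ T, Lacks (p n).1 Z ↔ ∃ j < n, (p j).1 = Z) ∧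
      ∀ Z ∈ T, Lacks (p n).2 Z ↔ ∃ j < n, (p j).2 = Z := by
    intro n
    induction n using Nat.strong_induction_on with
    | _ n ih =>
      rcases n with _ | n
      · exact ⟨h₀, h₁, fun Z hZ => ⟨fun h => absurd h (not_lacks_of_mem S hb₀ rfl hZ h₀.1),
          fun ⟨j, hj, _⟩ => absurd hj (Nat.not_lt_zero j)⟩,
          fun Z hZ => ⟨fun h => absurd h (not_lacks_of_mem S hb₁ rfl (mem_common_comm S hZ) h₁.1),
          fun ⟨j, hj, _⟩ => absurd hj (Nat.not_lt_zero j)⟩⟩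
      obtain ⟨han, hbn, hLa, hLb⟩ := ih n (Nat.lt_succ_self n)
      have hea : ∀ i ≤ n, (p i).1 ≠ B₀ := by
        intro i hi he
        rcases Nat.eq_zero_or_pos i with rfl | hpos
        · exact hBC he.symm
        · have h1 := ((ih i (Nat.lt_succ_of_le hi)).2.2.1 C₀ h₀).mpr ⟨0, hpos, rfl⟩
          rw [he] at h1
          exact not_lacks_of_mem S hb₁ rfl (mem_common_comm S h₀) h₁.1 h1
      have heb : ∀ i ≤ n, (p i).2 ≠ C₀ := by
        intro i hi he
        rcases Nat.eq_zero_or_pos i with rfl | hpos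
        · exact hBC he
        · have h1 := ((ih i (Nat.lt_succ_of_le hi)).2.2.2 B₀ h₁).mpr ⟨0, hpos, rfl⟩
          rw [he] at h1
          exact not_lacks_of_mem S hb₀ rfl h₁ h₀.1 h1
      have hbl : ¬ Lacks (p n).2 C₀ := by
        rw [hLb C₀ h₀]
        rintro ⟨j, hj, he⟩
        exact heb j hj.le he
      have hal : ¬ Lacks (p n).1 B₀ := by
        rw [hLa B₀ h₁]
        rintro ⟨j, hj, he⟩
        exact hea j hj.le he
      have hbb : ¬ Bad (p n).2 X := fun h => heb n le_rfl (eq_of_bad S hX' hne h₀ hb₀ hbn h)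
      have hab : ¬ Bad (p n).1 X' := fun h => hea n le_rfl
        (eq_of_bad S hX hne.symm (mem_common_comm S h₁) hb₁ (mem_common_comm S han) h)
      refine ⟨(hmap _ hbn hbb).1,
        mem_common_comm S (hxmap _ (mem_common_comm S han) hab).1, fun Z hZ => ?_, fun Z hZ => ?_⟩
      · show Lacks (m ▹ (p n).2) Z ↔ _
        rw [lacks_mover S hX' hne h₀ hb₀ hm hmap hmove hbn (heb n le_rfl) hbl hZ]
        constructor
        · rintro (rfl | ⟨Z', hZ', hl, rfl⟩)
          · exact ⟨0, Nat.succ_pos n, rfl⟩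
          · obtain ⟨j, hj, rfl⟩ := (hLb Z' hZ').mp hl
            exact ⟨j + 1, Nat.succ_lt_succ hj, rfl⟩
        · rintro ⟨_ | j, hj, rfl⟩
          · exact Or.inl rfl
          · have hj' : j < n := Nat.lt_of_succ_lt_succ hj
            have hjT : (p j).2 ∈ T := (ih j (by omega)).2.1
            exact Or.inr ⟨(p j).2, hjT, (hLb _ hjT).mpr ⟨j, hj', rfl⟩, rfl⟩
      · show Lacks (x ▹ (p n).1) Z ↔ _
        rw [lacks_mover S hX hne.symm (mem_common_comm S h₁) hb₁ hx hxmap hxmove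
          (mem_common_comm S han) (hea n le_rfl) hal (mem_common_comm S hZ)]
        constructor
        · rintro (rfl | ⟨Z', hZ', hl, rfl⟩)
          · exact ⟨0, Nat.succ_pos n, rfl⟩
          · obtain ⟨j, hj, rfl⟩ := (hLa Z' (mem_common_comm S hZ')).mp hl
            exact ⟨j + 1, Nat.succ_lt_succ hj, rfl⟩
        · rintro ⟨_ | j, hj, rfl⟩
          · exact Or.inl rfl
          · have hj' : j < n := Nat.lt_of_succ_lt_succ hj
            have hjT : (p j).1 ∈ T := (ih j (by omega)).1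
            exact Or.inr ⟨(p j).1, mem_common_comm S hjT, (hLa _ hjT).mpr ⟨j, hj', rfl⟩, rfl⟩
  refine no_sequence (β := T) (fun C Z => Lacks (C : Subgroup G) Z) (fun n => ⟨(p n).1, (key n).1⟩)
    (fun n => not_lacks_self) (fun n i hi => ((key n).2.2.1 _ (key i).1).mpr ⟨i, hi, rfl⟩)

/-- `M` is the only maximal overgroup of `A`. -/
theorem unique (X₀ : Subgroup G) (hX₀ : IsCoatom X₀) (hAX₀ : A ≤ X₀) : X₀ = M := by
  classical
  by_contra hne₀
  let P := {q : Subgroup G × Subgroup G × Subgroup G //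
    q.1 ∈ common A q.2.1 q.2.2 ∧ Bad q.1 q.2.1 ∧ IsCoatom q.2.2 ∧ q.2.2 ≠ q.2.1}
  haveI : Nonempty P := ⟨⟨(A, M, X₀), ⟨⟨1, by rw [map_one, one_smul]⟩, S.le, hAX₀⟩, S.bad_self, hX₀, hne₀⟩⟩
  let w : P → ℕ := fun q => Nat.card (common A q.1.2.1 q.1.2.2) * (Nat.card G + 1) +
    Nat.card (q.1.2.1 ⊓ q.1.2.2 : Subgroup G)
  obtain ⟨⟨⟨C₀, X, X'⟩, h₀, hb₀, hX', hne⟩, hmax⟩ := Finite.exists_max w
  simp only at h₀ hb₀ hX' hne
  set T := common A X X' with hT
  obtain ⟨m, hm, hm', hmap⟩ := S.exists_mover hb₀.1 hX' hne.symm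
  obtain ⟨x, hx, hx', hxmap⟩ := S.exists_mover hX' hb₀.1 hne
  -- if `m` fixes `C₀` it fixes `T`
  have hmstab : m ▹ C₀ = C₀ → ∀ C, C ∈ T → m ▹ C ∈ T := fun he C hC => by
    by_cases hb : Bad C X
    · rw [eq_of_bad S hX' hne h₀ hb₀ hC hb, he]; exact h₀
    · exact (hmap C hC hb).1
  have hW : ∀ z ∈ X', z ∉ X → (∀ C, C ∈ T → z ▹ C ∈ T) →
      (∀ C, C ∈ T → m ▹ C ∈ T) → False := by
    intro z hz hz' hzT hmT
    have hiff : ∀ g : G, (∀ C, C ∈ T → g ▹ C ∈ T) → ∀ C, g ▹ C ∈ T ↔ C ∈ T := by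
      intro g hg C
      refine ⟨fun h => ?_, hg C⟩
      let f : T → T := fun D => ⟨g ▹ D.1, hg D.1 D.2⟩
      have hf : Function.Injective f := fun D E e => by
        have h1 : g ▹ D.1 = g ▹ E.1 := congrArg Subtype.val e
        exact Subtype.ext (smul_left_cancel _ h1)
      obtain ⟨⟨D, hD⟩, hfD⟩ := Finite.surjective_of_injective hf ⟨_, h⟩
      rw [← smul_left_cancel (MulAut.conj g) (congrArg Subtype.val hfD)]
      exact hD
    let K : Subgroup G :=
      { carrier := {g | ∀ C, g ▹ C ∈ T ↔ C ∈ T}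
        one_mem' := fun C => by rw [map_one, one_smul]
        mul_mem' := fun {g k} hg hk C => by rw [← conj_smul_conj, hg, hk]
        inv_mem' := fun {g} hg C => by
          rw [← hg, conj_smul_conj, mul_inv_cancel, map_one, one_smul] }
    have hDK : X ⊓ X' ≤ K := fun d hd => hiff d fun C hC =>
      ⟨conj_of_conj hC.1 d, smul_le_of_mem (Subgroup.mem_inf.mp hd).1 hC.2.1,
        smul_le_of_mem (Subgroup.mem_inf.mp hd).2 hC.2.2⟩
    have hK : K ≠ ⊤ := by
      intro e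
      apply hb₀.1.1
      rw [← top_le_iff, ← S.closure_eq]
      refine (Subgroup.closure_le _).mpr fun y hy => ?_
      obtain ⟨a, ha, hc⟩ := Group.mem_conjugatesOfSet_iff.mp hy
      obtain ⟨g, rfl⟩ := isConj_iff.mp hc
      obtain ⟨k, hk⟩ := h₀.1
      have hgK : g * k⁻¹ ∈ K := by rw [e]; trivial
      have h1 := ((hgK C₀).mpr h₀).2.1
      rw [← hk, conj_smul_conj, inv_mul_cancel_right] at h1
      exact h1 ⟨a, ha, rfl⟩
    obtain ⟨W, hW, hKW⟩ := (eq_top_or_exists_le_coatom K).resolve_left hK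
    have hsub : T ⊆ common A X W := fun C hC =>
      ⟨hC.1, hC.2.1, le_trans (le_inf hC.2.1 hC.2.2) (hDK.trans hKW)⟩
    have hWX : W ≠ X := fun e => hz' (e ▸ hKW (hiff z hzT))
    have hlt : X ⊓ X' < X ⊓ W := lt_of_le_of_ne (le_inf inf_le_left (hDK.trans hKW)) fun e =>
      hm' ((e.symm ▸ (Subgroup.mem_inf.mpr ⟨hm, hKW (hiff m hmT)⟩) : m ∈ X ⊓ X')).2
    have h1 : w ⟨(C₀, X, W), hsub h₀, hb₀, hW, hWX⟩ ≤ _ :=
      hmax ⟨(C₀, X, W), hsub h₀, hb₀, hW, hWX⟩
    simp only [w] at h1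
    have h2 : Nat.card T ≤ Nat.card (common A X W) :=
      Nat.card_mono (Set.toFinite _) hsub
    have h3 : Nat.card (X ⊓ X' : Subgroup G) < Nat.card (X ⊓ W : Subgroup G) := by
      refine lt_of_le_of_ne (Subgroup.card_le_of_le hlt.le) fun e => hlt.ne ?_
      exact Subgroup.eq_of_le_of_card_ge hlt.le e.ge
    have h4 := Nat.mul_le_mul_right (Nat.card G + 1) h2
    rw [hT] at h4
    omega
  have hxC₀ : x ▹ C₀ ≠ C₀ := fun e => hx' (S.smul_bad_eq h₀.1 hb₀ e)
  by_cases hB : ∃ B₀ ∈ T, Bad B₀ X' ∧ x ▹ B₀ ≠ B₀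
  · obtain ⟨B₀, h₁, hb₁, hxB⟩ := hB
    by_cases hmC : m ▹ C₀ = C₀
    · exact S.false_of_stab (X := X') hb₀.1 hne.symm (mem_common_comm S h₁) hb₁ hx hxmap hxB
        (x := m) (fun C hC => mem_common_comm S (hmstab hmC C (mem_common_comm S hC)))
        (fun e => hm' (S.smul_bad_eq h₁.1 hb₁ e))
    · exact S.false_of_movers hb₀.1 hX' hne h₀ hb₀ h₁ hb₁ hm hmap hmC hx hxmap hxB
  · have hxstab : ∀ C, C ∈ T → x ▹ C ∈ T := fun C hC => by
      by_cases hb : Bad C X'
      · by_contra h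
        exact hB ⟨C, hC, hb, fun e => h (e.symm ▸ hC)⟩
      · exact mem_common_comm S (hxmap C (mem_common_comm S hC) hb).1
    by_cases hmC : m ▹ C₀ = C₀
    · exact hW x hx hx' hxstab (hmstab hmC)
    · exact S.false_of_stab hX' hne h₀ hb₀ hm hmap hmC hxstab hxC₀

end Setup

end Cfsg.Agent.Lib.ZipperVariant
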