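import Cfsg.Agent.Lib.ZipperVariant.Core

/-!
# The variant of the zipper lemma
-/

set_option autoImplicit false

namespace Cfsg.Agent.Lib.ZipperVariant

open scoped Pointwise

variable {G : Type*} [Group G] [Finite G]

/-- If all proper subgroups generated by their conjugates of `A` lie in a common proper subgroup,
then `A` lies in a unique maximal subgroup. -/
theorem existsUnique_coatom (A : Subgroup G) (hA : Subgroup.normalClosure (A : Set G) = ⊤)
    (hAG : A ≠ ⊤) (hY : ∃ Y : Subgroup G, Y ≠ ⊤ ∧ ∀ H, Perf A H → H ≠ ⊤ → H ≤ Y) :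
    ∃! M : Subgroup G, IsCoatom M ∧ A ≤ M := by
  induction A using WellFoundedGT.induction with
  | _ A ih =>
    obtain ⟨Y, hYne, hY⟩ := hY
    by_cases hall : ∀ H : Subgroup G, H ≠ ⊤ → A ≤ H → SNIn A H
    · have hns : ¬ A.IsSubnormal := fun h => by
        obtain ⟨K, hK, hAK, hlt⟩ := h.exists_normal_and_le_and_lt_top_of_ne hAG
        exact hlt.ne (top_le_iff.mp (hA ▸ Subgroup.normalClosure_le_normal hAK))
      obtain ⟨M, hM, hAM, huniq⟩ := Zipper.zipper A hall hns
      exact ⟨M, ⟨hM, hAM⟩, fun X hX => huniq X hX.1 hX.2⟩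
    push Not at hall
    obtain ⟨H₀, hH₀, hAH₀, hns₀⟩ := hall
    obtain ⟨C₀, hC₀, hC₀H, hC₀A⟩ := exists_perf_ne hAH₀ hns₀
    obtain ⟨M, hM, hYM⟩ := (eq_top_or_exists_le_coatom Y).resolve_left hYne
    have hC₀M : C₀ ≤ M := (hY C₀ hC₀ fun e => hH₀ (top_le_iff.mp (e ▸ hC₀H))).trans hYM
    have hnsM : ¬ SNIn A M := fun h => hC₀A (hC₀.eq_of_snIn (h.mono hC₀M))
    have hAM : A ≤ M := hC₀.1.trans hC₀M
    have hclo : ∀ C : Subgroup G, A ≤ C → Subgroup.normalClosure (C : Set G) = ⊤ := fun C hC =>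
      top_le_iff.mp (hA ▸ Subgroup.normalClosure_mono hC)
    have hstar : ∀ X, IsCoatom X → A ≤ X → X ≠ M → SNIn A X := by
      intro X hX hAX hne
      by_contra hns
      obtain ⟨C, hC, hCX, hCA⟩ := exists_perf_ne hAX hns
      have hCt : C ≠ ⊤ := fun e => hX.1 (top_le_iff.mp (e ▸ hCX))
      obtain ⟨N, -, huniq⟩ := ih C (lt_of_le_of_ne hC.1 (Ne.symm hCA)) (hclo C hC.1) hCt
        ⟨Y, hYne, fun H hH hHt => hY H (hC.trans hH) hHt⟩
      exact hne ((huniq X ⟨hX, hCX⟩).trans (huniq M ⟨hM, (hY C hC hCt).trans hYM⟩).symm)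
    have hS : Setup A M := by
      refine ⟨hA, hM, hAM, hnsM, hstar, fun g hgA hgM X hX hne hAX hgX => ?_⟩
      have hgAM : MulAut.conj g • A ≤ M :=
        le_trans (Subgroup.pointwise_smul_le_pointwise_smul_iff.mpr hAM) hgM.le
      have hsub : ¬ (MulAut.conj g • A) ≤ A := fun h => hgA
        (Subgroup.eq_of_le_of_card_ge h
          (le_of_eq (Nat.card_congr (Subgroup.equivSMul (MulAut.conj g) A).toEquiv)))
      obtain ⟨U, hU⟩ : ∃ U : Subgroup G, U = A ⊔ MulAut.conj g • A := ⟨_, rfl⟩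
      have hAU : A ≤ U := le_sup_left.trans hU.ge
      have hgU : MulAut.conj g • A ≤ U := le_sup_right.trans hU.ge
      have hlt : A < U := lt_of_le_of_ne hAU fun e => hsub (hgU.trans e.ge)
      have hUX : U ≤ X := hU.le.trans (sup_le hAX hgX)
      have hUM : U ≤ M := hU.le.trans (sup_le hAM hgAM)
      have hUY : ∀ H, Perf U H → H ≠ ⊤ → H ≤ M := by
        intro H hH hHt
        by_contra hHM
        obtain ⟨Z, hZ, hHZ⟩ := (eq_top_or_exists_le_coatom H).resolve_left hHt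
        have hZM : Z ≠ M := fun e => hHM (e ▸ hHZ)
        have hUZ : U ≤ Z := hH.1.trans hHZ
        have hAZ : A ≤ Z := hAU.trans hUZ
        have hgZ : MulAut.conj g • A ≤ Z := hgU.trans hUZ
        have h1 : SNIn (MulAut.conj g • A) Z := by
          have h2 := (snIn_smul (A := A) (Y := MulAut.conj g⁻¹ • Z) g).mpr
            (hstar _ (isCoatom_smul hZ g⁻¹) (by
              rw [map_inv, ← Subgroup.pointwise_smul_subset_iff]; exact hgZ) fun e => hZM (by
              rw [← hgM, ← e, smul_smul, ← map_mul, mul_inv_cancel, map_one, one_smul]))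
          rwa [smul_smul, ← map_mul, mul_inv_cancel, map_one, one_smul] at h2
        have h3 : SNIn U Z := by
          rw [SNIn, hU, Subgroup.subgroupOf_sup hAZ hgZ]
          exact Components.subnormal_sup (hstar Z hZ hAZ hZM) h1
        exact hHM (hH.eq_of_snIn (h3.mono hHZ) ▸ hUM)
      obtain ⟨N, -, huniq⟩ := ih U hlt (hclo U hAU)
        (fun e => hX.1 (top_le_iff.mp (e ▸ hUX))) ⟨M, hM.1, hUY⟩
      exact hne ((huniq X ⟨hX, hUX⟩).trans (huniq M ⟨hM, hUM⟩).symm)
    exact ⟨M, ⟨hM, hAM⟩, fun X hX => hS.unique X hX.1 hX.2⟩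

end Cfsg.Agent.Lib.ZipperVariant
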