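import Cfsg.Agent.Lib.Zipper

/-!
# Subgroups generated by their own conjugates of a given subgroup
-/

set_option autoImplicit false

namespace Cfsg.Agent.Lib.ZipperVariant

open scoped Pointwise

variable {G : Type*} [Group G]

/-- Subnormality inside a subgroup. -/
def SNIn (A H : Subgroup G) : Prop := (A.subgroupOf H).IsSubnormal

/-- `H` is the normal closure of `A` in `H`. -/
def Perf (A H : Subgroup G) : Prop :=
  A ≤ H ∧ Subgroup.normalClosure ((A.subgroupOf H : Subgroup H) : Set H) = ⊤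

theorem Perf.le_of_normalizes {A H N : Subgroup G} (h : Perf A H) (hAN : A ≤ N)
    (hHN : H ≤ Subgroup.normalizer (N : Set G)) : H ≤ N := by
  haveI : (N.subgroupOf H).Normal := Subgroup.normal_subgroupOf_of_le_normalizer hHN
  have h1 : Subgroup.normalClosure ((A.subgroupOf H : Subgroup H) : Set H) ≤ N.subgroupOf H :=
    Subgroup.normalClosure_le_normal fun x hx => hAN hx
  rw [h.2] at h1
  exact Subgroup.subgroupOf_eq_top.mp (top_le_iff.mp h1)

theorem perf_of {A H : Subgroup G} (hAH : A ≤ H)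
    (h : ∀ N : Subgroup G, A ≤ N → H ≤ Subgroup.normalizer (N : Set G) → H ≤ N) : Perf A H := by
  refine ⟨hAH, ?_⟩
  set K := Subgroup.normalClosure ((A.subgroupOf H : Subgroup H) : Set H)
  have h1 : H ≤ K.map H.subtype := h _
    (fun a ha => ⟨⟨a, hAH ha⟩, Subgroup.subset_normalClosure ha, rfl⟩)
    (fun x hx => by
      have := Subgroup.le_normalizer_map (H := K) H.subtype
      exact this ⟨⟨x, hx⟩, by rw [Subgroup.normalizer_eq_top_iff.mpr inferInstance]; trivial, rfl⟩)
  rw [eq_top_iff]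
  intro x _
  obtain ⟨y, hy, hyx⟩ := h1 x.2
  exact (Subtype.ext hyx : y = x) ▸ hy

theorem Perf.trans {A C H : Subgroup G} (hC : Perf A C) (hH : Perf C H) : Perf A H :=
  perf_of (hC.1.trans hH.1) fun N hAN hHN =>
    hH.le_of_normalizes (hC.le_of_normalizes hAN (hH.1.trans hHN)) hHN

theorem Perf.smul {A H : Subgroup G} (h : Perf A H) (φ : MulAut G) : Perf (φ • A) (φ • H) := by
  refine perf_of (Subgroup.pointwise_smul_le_pointwise_smul_iff.mpr h.1) fun N hAN hHN => ?_
  rw [Subgroup.pointwise_smul_subset_iff] at hAN ⊢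
  refine h.le_of_normalizes hAN ?_
  have h1 : φ⁻¹ • (φ • H) ≤ φ⁻¹ • Subgroup.normalizer (N : Set G) :=
    Subgroup.pointwise_smul_le_pointwise_smul_iff.mpr hHN
  rw [inv_smul_smul] at h1
  exact h1.trans (Subgroup.le_normalizer_map _)

theorem SNIn.mono {A H H' : Subgroup G} (h : SNIn A H) (hle : H' ≤ H) : SNIn A H' :=
  h.comap (Subgroup.inclusion hle)

theorem SNIn.trans {A N H : Subgroup G} (hAN : A ≤ N) (h1 : SNIn A N) (h2 : SNIn N H) :
    SNIn A H := by
  let f : (N.subgroupOf H) →* N :=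
    (H.subtype.comp (N.subgroupOf H).subtype).codRestrict N fun x => x.2
  exact Subgroup.IsSubnormal.trans (fun x hx => hAN hx)
    (h1.comap f : ((A.subgroupOf H).subgroupOf (N.subgroupOf H)).IsSubnormal) h2

theorem Perf.eq_of_snIn {A H : Subgroup G} (h : Perf A H) (hs : SNIn A H) : H = A := by
  refine le_antisymm ?_ h.1
  by_contra hne
  have hne' : A.subgroupOf H ≠ ⊤ := fun e => hne (Subgroup.subgroupOf_eq_top.mp e)
  obtain ⟨K, hK, hAK, hKlt⟩ := hs.exists_normal_and_le_and_lt_top_of_ne hne'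
  have h1 : Subgroup.normalClosure ((A.subgroupOf H : Subgroup H) : Set H) ≤ K :=
    Subgroup.normalClosure_le_normal hAK
  rw [h.2, top_le_iff] at h1
  exact hKlt.ne h1

variable [Finite G]

theorem exists_perf {A H : Subgroup G} (hAH : A ≤ H) :
    ∃ C, Perf A C ∧ C ≤ H ∧ SNIn C H := by
  induction H using WellFoundedLT.induction with
  | _ H ih =>
    by_cases h : Subgroup.normalClosure ((A.subgroupOf H : Subgroup H) : Set H) = ⊤
    · exact ⟨H, ⟨hAH, h⟩, le_rfl, by rw [SNIn, Subgroup.subgroupOf_self]; exact .top⟩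
    set K := Subgroup.normalClosure ((A.subgroupOf H : Subgroup H) : Set H) with hK
    have hNH : K.map H.subtype ≤ H := Subgroup.map_subtype_le K
    have heq : (K.map H.subtype).subgroupOf H = K :=
      Subgroup.comap_map_eq_self_of_injective H.subtype_injective K
    have hlt : K.map H.subtype < H := lt_of_le_of_ne hNH fun e => h (by
      rw [← heq, e, Subgroup.subgroupOf_self])
    obtain ⟨C, hC, hCN, hCs⟩ := ih _ hlt
      (fun a ha => ⟨⟨a, hAH ha⟩, Subgroup.subset_normalClosure ha, rfl⟩)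
    refine ⟨C, hC, hCN.trans hNH, hCs.trans hCN ?_⟩
    rw [SNIn, heq, hK]
    exact Subgroup.normalClosure_normal.isSubnormal

theorem exists_perf_ne {A H : Subgroup G} (hAH : A ≤ H) (h : ¬ SNIn A H) :
    ∃ C, Perf A C ∧ C ≤ H ∧ C ≠ A := by
  obtain ⟨C, hC, hCH, hCs⟩ := exists_perf hAH
  exact ⟨C, hC, hCH, fun e => h (e ▸ hCs)⟩

theorem snIn_sSup {S : Set (Subgroup G)} {X : Subgroup G} (hle : ∀ C ∈ S, C ≤ X)
    (h : ∀ C ∈ S, SNIn C X) : SNIn (sSup S) X := by
  have hR : sSup S ≤ X := sSup_le hle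
  have heq : (sSup S).subgroupOf X = sSup ((fun C : Subgroup G => C.subgroupOf X) '' S) := by
    apply Subgroup.map_injective X.subtype_injective
    rw [Subgroup.map_subgroupOf_eq_of_le hR, sSup_image, Subgroup.map_iSup, sSup_eq_iSup]
    refine iSup_congr fun C => ?_
    rw [Subgroup.map_iSup]
    exact iSup_congr fun hC => (Subgroup.map_subgroupOf_eq_of_le (hle C hC)).symm
  rw [SNIn, heq]
  exact Components.subnormal_sSup _ (by rintro _ ⟨C, hC, rfl⟩; exact h C hC)

theorem snIn_smul {A Y : Subgroup G} (x : G) :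
    SNIn (MulAut.conj x • A) (MulAut.conj x • Y) ↔ SNIn A Y := by
  constructor
  · intro h
    have h1 := Zipper.subnormal_conj_subgroupOf (A := MulAut.conj x • A) (Y := Y) x⁻¹
      (by rw [inv_inv]; exact h)
    rwa [smul_smul, ← map_mul, inv_mul_cancel, map_one, one_smul] at h1
  · intro h
    refine Zipper.subnormal_conj_subgroupOf x ?_
    rw [smul_smul, ← map_mul, inv_mul_cancel, map_one, one_smul]
    exact h

end Cfsg.Agent.Lib.ZipperVariant
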